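import Groth.Agent.Lib.BertiniJets13.Chart
import Groth.Agent.Lib.CIUnmixed6.Basic
import Groth.Agent.Lib.RegLoc.UFD
import Mathlib

/-!
# General complete intersections are nonsingular

Bertini by jets on the affine charts, applied to all monomials of a given degree, and induction on
the number of equations.
-/

set_option autoImplicit false
set_option linter.style.haveILetI false
universe u

open MvPolynomial

namespace Groth.Agent.NonsingCI6

variable {k : Type u} [Field k] {n : ℕ}

theorem mk_range_le_nat {α : Type u} {r : ℕ} (f : Fin r → α) :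
    Cardinal.mk (Set.range f) ≤ (r : Cardinal.{u}) := by
  simpa using Cardinal.mk_range_le_lift (f := f)

/-- The monomial attached to a word. -/
noncomputable def mon {d : ℕ} (w : Fin d → Fin (n + 1)) : MvPolynomial (Fin (n + 1)) k := ∏ t, X (w t)

theorem mon_isHomogeneous {d : ℕ} (w : Fin d → Fin (n + 1)) : (mon (k := k) w).IsHomogeneous d := by
  have h := IsHomogeneous.prod Finset.univ (fun t => (X (w t) : MvPolynomial (Fin (n + 1)) k)) (fun _ => 1)
    fun t _ => isHomogeneous_X k (w t)
  simpa [mon] using h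

/-- The general form with given coefficients. -/
noncomputable def gen {d : ℕ} (c : Fin (Fintype.card (Fin d → Fin (n + 1))) → k) : MvPolynomial (Fin (n + 1)) k :=
  ∑ i, c i • mon ((Fintype.equivFin _).symm i)

theorem gen_isHomogeneous {d : ℕ} (c : Fin (Fintype.card (Fin d → Fin (n + 1))) → k) :
    (gen c).IsHomogeneous d :=
  IsHomogeneous.sum _ _ _ fun i _ => by
    rw [smul_eq_C_mul]
    exact (mon_isHomogeneous _).C_mul _

/-- The ideal of the chart `X j = 1`. -/
noncomputable def chartI (J : Ideal (MvPolynomial (Fin (n + 1)) k)) (j : Fin (n + 1)) :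
    Ideal (MvPolynomial (Fin (n + 1)) k) :=
  J ⊔ Ideal.span {X j - 1}

/-- Smoothness on all charts. -/
def SmoothCharts (J : Ideal (MvPolynomial (Fin (n + 1)) k)) : Prop :=
  ∀ j, Algebra.Smooth k (MvPolynomial (Fin (n + 1)) k ⧸ chartI J j)

theorem smoothCharts_bot [IsAlgClosed k] : SmoothCharts (⊥ : Ideal (MvPolynomial (Fin (n + 1)) k)) := by
  intro j
  haveI : Algebra.Smooth k (MvPolynomial (Fin (n + 1)) k) := ⟨inferInstance, inferInstance⟩
  have h := BertiniJets13.smooth_quotient (k := k) (A := MvPolynomial (Fin (n + 1)) k) (X j - 1) fun M hM hsq => by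
    have h1 : pderiv j (X j - 1 : MvPolynomial (Fin (n + 1)) k) ∈ M := by
      rw [pow_two] at hsq
      exact Submodule.mul_induction_on (C := fun q => pderiv j q ∈ M) hsq
        (fun x hx y hy => by
          show pderiv j (x * y) ∈ M
          rw [pderiv_mul]
          exact add_mem (M.mul_mem_left _ hy) (M.mul_mem_right _ hx))
        (fun x y hx hy => by
          show pderiv j (x + y) ∈ M
          rw [map_add]; exact add_mem hx hy)
    simp at h1
    exact hM.ne_top ((Ideal.eq_top_iff_one M).2 h1)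
  exact Algebra.Smooth.of_equiv (Ideal.quotientEquivAlgOfEq k (bot_sup_eq (Ideal.span {X j - 1})).symm)

/-- Jets of the monomials of positive degree on a chart. -/
theorem jets [IsAlgClosed k] {d : ℕ} (hd : 0 < d) (J : Ideal (MvPolynomial (Fin (n + 1)) k)) (j : Fin (n + 1))
    (M : Ideal (MvPolynomial (Fin (n + 1)) k ⧸ chartI J j)) (hM : M.IsMaximal)
    (z : MvPolynomial (Fin (n + 1)) k ⧸ chartI J j) :
    ∃ c : Fin (Fintype.card (Fin d → Fin (n + 1))) → k,
      (∑ i, c i • Ideal.Quotient.mk (chartI J j) (mon ((Fintype.equivFin _).symm i))) - z ∈ M ^ 2 := by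
  classical
  haveI := hM
  let S := MvPolynomial (Fin (n + 1)) k
  let A := S ⧸ chartI J j
  let g : Fin (Fintype.card (Fin d → Fin (n + 1))) → A :=
    fun i => Ideal.Quotient.mk (chartI J j) (mon ((Fintype.equivFin _).symm i))
  let W : Submodule k A := Submodule.span k (Set.range g) ⊔ (M ^ 2).restrictScalars k
  suffices hW : ∀ a : A, a ∈ W by
    obtain ⟨u, hu, v, hv, huv⟩ := Submodule.mem_sup.1 (hW z)
    obtain ⟨c, hc⟩ := (Submodule.mem_span_range_iff_exists_fun k).1 hu
    refine ⟨c, ?_⟩
    show (∑ i, c i • g i) - z ∈ M ^ 2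
    rw [hc, ← huv, sub_add_cancel_left]
    exact neg_mem hv
  have hj : Ideal.Quotient.mk (chartI J j) (X j) = 1 := by
    rw [← map_one (Ideal.Quotient.mk (chartI J j)), Ideal.Quotient.eq]
    exact Ideal.mem_sup_right (Ideal.mem_span_singleton_self _)
  let t0 : Fin d := ⟨0, hd⟩
  have hmon : ∀ w : Fin d → Fin (n + 1), Ideal.Quotient.mk (chartI J j) (mon w) ∈ W := fun w =>
    Submodule.mem_sup_left (Submodule.subset_span ⟨Fintype.equivFin _ w, by simp [g]⟩)
  have hX : ∀ l, Ideal.Quotient.mk (chartI J j) (X l) ∈ W := by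
    intro l
    have e : Ideal.Quotient.mk (chartI J j) (mon (Function.update (fun _ : Fin d => j) t0 l)) =
        Ideal.Quotient.mk (chartI J j) (X l) := by
      rw [mon, map_prod, Finset.prod_eq_single t0]
      · simp
      · intro t _ ht
        simp [Function.update_of_ne ht, hj]
      · simp
    rw [← e]
    exact hmon _
  have h1 : (1 : A) ∈ W := hj ▸ hX j
  intro a
  obtain ⟨p, rfl⟩ := Ideal.Quotient.mk_surjective a
  induction p using MvPolynomial.induction_on with
  | C a =>
    have : Ideal.Quotient.mk (chartI J j) (C a) = a • (1 : A) := by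
      exact ((Algebra.smul_def a (1 : A)).trans (mul_one _)).symm
    rw [this]
    exact W.smul_mem a h1
  | add p q hp hq => rw [map_add]; exact W.add_mem hp hq
  | mul_X p l hp =>
    rw [map_mul]
    let x : Fin (n + 1) → A := fun i => Ideal.Quotient.mk (chartI J j) (X i)
    obtain ⟨v, hv⟩ : ∃ v : Fin (n + 1) → k, ∀ i, x i - algebraMap k A (v i) ∈ M :=
      ⟨fun i => (BertiniJets13.exists_const (k := k) M (x i)).choose,
        fun i => (BertiniJets13.exists_const (k := k) M (x i)).choose_spec⟩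
    obtain ⟨a, ha⟩ := BertiniJets13.exists_const (k := k) M (Ideal.Quotient.mk (chartI J j) p)
    have e : Ideal.Quotient.mk (chartI J j) p * x l =
        (Ideal.Quotient.mk (chartI J j) p - algebraMap k A a) * (x l - algebraMap k A (v l)) +
          (v l • Ideal.Quotient.mk (chartI J j) p + a • x l - (a * v l) • (1 : A)) := by
      rw [Algebra.smul_def (v l) (Ideal.Quotient.mk (chartI J j) p), Algebra.smul_def a (x l),
        Algebra.smul_def (a * v l) (1 : A), (algebraMap k A).map_mul, mul_one]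
      ring
    show Ideal.Quotient.mk (chartI J j) p * x l ∈ W
    rw [e]
    refine W.add_mem (Submodule.mem_sup_right ?_)
      (W.sub_mem (W.add_mem (W.smul_mem _ hp) (W.smul_mem _ (hX l))) (W.smul_mem _ h1))
    rw [Submodule.restrictScalars_mem, pow_two]
    exact Ideal.mul_mem_mul ha (hv l)

/-- Almost every form keeps the charts smooth. -/
theorem exists_poly_smoothCharts [IsAlgClosed k] {d : ℕ} (hd : 0 < d)
    (J : Ideal (MvPolynomial (Fin (n + 1)) k)) (hJ : SmoothCharts J) :
    ∃ G : MvPolynomial (Fin (Fintype.card (Fin d → Fin (n + 1)))) k, G ≠ 0 ∧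
      ∀ c, eval c G ≠ 0 → SmoothCharts (J ⊔ Ideal.span {gen c}) := by
  classical
  have key : ∀ j, ∃ G : MvPolynomial (Fin (Fintype.card (Fin d → Fin (n + 1)))) k, G ≠ 0 ∧
      ∀ c, eval c G ≠ 0 →
        Algebra.Smooth k (MvPolynomial (Fin (n + 1)) k ⧸ chartI (J ⊔ Ideal.span {gen c}) j) := by
    intro j
    haveI := hJ j
    obtain ⟨G, hG, hgood⟩ := BertiniJets13.exists_good_poly_affine (k := k)
      (A := MvPolynomial (Fin (n + 1)) k ⧸ chartI J j) 0
      (fun i => Ideal.Quotient.mk (chartI J j) (mon ((Fintype.equivFin (Fin d → Fin (n + 1))).symm i)))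
      fun M hM z => jets hd J j M hM z
    refine ⟨G, hG, fun c hc => ?_⟩
    haveI := hgood c hc
    have e1 : (Ideal.span {gen c}).map (Ideal.Quotient.mkₐ k (chartI J j)) =
        Ideal.span {(0 : MvPolynomial (Fin (n + 1)) k ⧸ chartI J j) +
          ∑ i, c i • Ideal.Quotient.mk (chartI J j) (mon ((Fintype.equivFin _).symm i))} := by
      rw [Ideal.map_span, Set.image_singleton, zero_add]
      congr 1
      simp only [gen, map_sum, map_smul]
      rfl
    have e2 : chartI J j ⊔ Ideal.span {gen c} = chartI (J ⊔ Ideal.span {gen c}) j := by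
      simp only [chartI]
      rw [sup_right_comm]
    haveI : Algebra.Smooth k ((MvPolynomial (Fin (n + 1)) k ⧸ chartI J j) ⧸ Ideal.span {(0 : MvPolynomial (Fin (n + 1)) k ⧸ chartI J j) +
          ∑ i, c i • Ideal.Quotient.mk (chartI J j) (mon ((Fintype.equivFin _).symm i))}) := hgood c hc
    exact Algebra.Smooth.of_equiv (A := (MvPolynomial (Fin (n + 1)) k ⧸ chartI J j) ⧸ Ideal.span
      {(0 : MvPolynomial (Fin (n + 1)) k ⧸ chartI J j) +
        ∑ i, c i • Ideal.Quotient.mk (chartI J j) (mon ((Fintype.equivFin _).symm i))})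
      (((Ideal.quotientEquivAlgOfEq k e1.symm).trans
      (DoubleQuot.quotQuotEquivQuotSupₐ k (chartI J j) (Ideal.span {gen c}))).trans
        (Ideal.quotientEquivAlgOfEq k e2))
  choose G hG hgood using key
  refine ⟨∏ j, G j, Finset.prod_ne_zero_iff.2 fun j _ => hG j, fun c hc j => hgood j c ?_⟩
  rw [map_prod, Finset.prod_ne_zero_iff] at hc
  exact hc j (Finset.mem_univ j)

/-- Almost every form avoids a given set of primes none of which contains all variables. -/
theorem exists_poly_avoid {d : ℕ} (P : Ideal (MvPolynomial (Fin (n + 1)) k)) [P.IsPrime]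
    (hP : ∃ l, (X l : MvPolynomial (Fin (n + 1)) k) ∉ P) :
    ∃ G : MvPolynomial (Fin (Fintype.card (Fin d → Fin (n + 1)))) k, G ≠ 0 ∧
      ∀ c, eval c G ≠ 0 → gen c ∉ P := by
  classical
  obtain ⟨l, hl⟩ := hP
  let w : Fin d → Fin (n + 1) := fun _ => l
  have hw : Ideal.Quotient.mkₐ k P (mon w) ≠ 0 := by
    intro h
    have h' : Ideal.Quotient.mk P (mon w) = 0 := h
    rw [Ideal.Quotient.eq_zero_iff_mem] at h'
    obtain ⟨t, _, ht⟩ := (Ideal.IsPrime.prod_mem_iff (p := P)).1 h'
    exact hl ht
  obtain ⟨ℓ, hℓ⟩ : ∃ ℓ : (MvPolynomial (Fin (n + 1)) k ⧸ P) →ₗ[k] k, ℓ (Ideal.Quotient.mkₐ k P (mon w)) ≠ 0 := by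
    obtain ⟨ℓ, hℓ⟩ := LinearMap.exists_leftInverse_of_injective
      (LinearMap.toSpanSingleton k _ (Ideal.Quotient.mkₐ k P (mon w)))
      (LinearMap.ker_toSpanSingleton k hw)
    refine ⟨ℓ, fun h => ?_⟩
    have := LinearMap.congr_fun hℓ 1
    simp [LinearMap.toSpanSingleton_apply] at this
    exact one_ne_zero (α := k) (by rw [← this]; exact h)
  let a : Fin (Fintype.card (Fin d → Fin (n + 1))) → k :=
    fun i => ℓ (Ideal.Quotient.mkₐ k P (mon ((Fintype.equivFin _).symm i)))
  refine ⟨∑ i, C (a i) * X i, fun h => hℓ ?_, fun c hc hmem => hc ?_⟩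
  · have := congrArg (eval (Pi.single (Fintype.equivFin _ w) (1 : k))) h
    simpa [a, Pi.single_apply] using this
  · have h0 : ℓ (Ideal.Quotient.mkₐ k P (gen c)) = 0 := by
      rw [show Ideal.Quotient.mkₐ k P (gen c) = 0 from Ideal.Quotient.eq_zero_iff_mem.2 hmem, map_zero]
    simp only [gen, map_sum, map_smul, smul_eq_mul] at h0
    simp only [map_sum, map_mul, eval_C, eval_X]
    rw [← h0]
    exact Finset.sum_congr rfl fun i _ => mul_comm _ _

/-- Almost every form increases the height. -/
theorem exists_poly_height {d : ℕ} (hd : 0 < d) {r : ℕ} (hr : r ≤ n)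
    (f : Fin r → MvPolynomial (Fin (n + 1)) k) (hf : (Ideal.span (Set.range f)).height = r) :
    ∃ G : MvPolynomial (Fin (Fintype.card (Fin d → Fin (n + 1)))) k, G ≠ 0 ∧
      ∀ c, eval c G ≠ 0 → (r + 1 : ℕ∞) ≤ (Ideal.span (Set.range f) ⊔ Ideal.span {gen c}).height := by
  classical
  set J := Ideal.span (Set.range f)
  have hfin : J.minimalPrimes.Finite := J.finite_minimalPrimes_of_isNoetherianRing
  have key : ∀ P : Ideal (MvPolynomial (Fin (n + 1)) k), P ∈ J.minimalPrimes →
      ∃ G : MvPolynomial (Fin (Fintype.card (Fin d → Fin (n + 1)))) k, G ≠ 0 ∧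
        ∀ c, eval c G ≠ 0 → gen c ∉ P := by
    intro P hP
    haveI : P.IsPrime := hP.1.1
    refine exists_poly_avoid P ?_
    by_contra hall
    push Not at hall
    have h1 := CIUnmixed6.le_height_of_X_mem P hall
    have h2 : P.height ≤ (r : ℕ∞) := by
      refine (Ideal.height_le_spanRank_toENat_of_mem_minimalPrimes J P hP).trans ?_
      refine (OrderHomClass.mono Cardinal.toENat (Submodule.spanRank_span_le_card (Set.range f))).trans ?_
      simpa using OrderHomClass.mono Cardinal.toENat (mk_range_le_nat f)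
    rw [h1, LiaisonH1.height_irr] at h2
    have : n + 1 ≤ r := by exact_mod_cast h2
    omega
  choose G hG hgood using key
  refine ⟨∏ P ∈ hfin.toFinset.attach, G P.1 (hfin.mem_toFinset.1 P.2),
    Finset.prod_ne_zero_iff.2 fun P _ => hG _ _, fun c hc => ?_⟩
  rw [map_prod, Finset.prod_ne_zero_iff] at hc
  rw [Ideal.height_eq_inf_minimalPrimes]
  refine le_iInf₂ fun Q hQ => ?_
  haveI : Q.IsPrime := hQ.1.1
  obtain ⟨P, hP, hPQ⟩ := Ideal.exists_minimalPrimes_le (le_sup_left.trans hQ.1.2 : J ≤ Q)
  haveI : P.IsPrime := hP.1.1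
  have hlt : P < Q := lt_of_le_of_ne hPQ fun e =>
    hgood P hP c (hc ⟨P, hfin.mem_toFinset.2 hP⟩ (Finset.mem_attach _ _))
      (e ▸ hQ.1.2 (Ideal.mem_sup_right (Ideal.mem_span_singleton_self _)))
  have h1 : (r : ℕ∞) ≤ P.height := by
    rw [← hf]
    exact Ideal.height_mono hP.1.2
  calc (r + 1 : ℕ∞) ≤ P.height + 1 := by gcongr
    _ ≤ Q.height := Ideal.height_add_one_le_of_lt_of_isPrime hlt

/-- General forms give nonsingular complete intersections on every chart. -/
theorem exists_forms [IsAlgClosed k] : ∀ (r : ℕ), r ≤ n → ∀ d : Fin r → ℕ, (∀ i, 0 < d i) →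
    ∃ f : Fin r → MvPolynomial (Fin (n + 1)) k, (∀ i, (f i).IsHomogeneous (d i)) ∧
      (∀ i, SmoothCharts (Ideal.span {f i})) ∧ SmoothCharts (Ideal.span (Set.range f)) ∧
      (Ideal.span (Set.range f)).height = r := by
  intro r
  induction r with
  | zero =>
    intro _ d _
    refine ⟨Fin.elim0, fun i => i.elim0, fun i => i.elim0, ?_, ?_⟩
    · rw [Set.range_eq_empty, Ideal.span_empty]; exact smoothCharts_bot
    · rw [Set.range_eq_empty, Ideal.span_empty, Ideal.height_bot]; rfl
  | succ r ih =>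
    intro hr d hd
    obtain ⟨f, hf, hsing, hall, hht⟩ := ih (by omega) (d ∘ Fin.castSucc) fun i => hd _
    obtain ⟨G₁, hG₁, h₁⟩ := exists_poly_smoothCharts (hd (Fin.last r)) _ hall
    obtain ⟨G₂, hG₂, h₂⟩ := exists_poly_smoothCharts (hd (Fin.last r)) _ (smoothCharts_bot (k := k) (n := n))
    obtain ⟨G₃, hG₃, h₃⟩ := exists_poly_height (hd (Fin.last r)) (by omega) f hht
    obtain ⟨c, hc⟩ : ∃ c, eval c (G₁ * G₂ * G₃) ≠ 0 := by
      by_contra hall
      push Not at hall
      exact mul_ne_zero (mul_ne_zero hG₁ hG₂) hG₃ (MvPolynomial.funext fun c => by rw [hall c, map_zero])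
    simp only [map_mul, mul_ne_zero_iff] at hc
    have hspan : Ideal.span (Set.range (Fin.snoc (α := fun _ => MvPolynomial (Fin (n + 1)) k) f (gen c))) =
        Ideal.span (Set.range f) ⊔ Ideal.span {gen c} := by
      rw [Fin.range_snoc, Ideal.span_insert, sup_comm]
    have hhomog : ∀ i, (Fin.snoc (α := fun _ => MvPolynomial (Fin (n + 1)) k) f (gen c) i).IsHomogeneous (d i) := by
      refine Fin.lastCases ?_ fun i => ?_
      · rw [Fin.snoc_last]; exact gen_isHomogeneous c
      · rw [Fin.snoc_castSucc]; exact hf i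
    have hsing' : ∀ i, SmoothCharts (Ideal.span {Fin.snoc (α := fun _ => MvPolynomial (Fin (n + 1)) k) f (gen c) i}) := by
      refine Fin.lastCases ?_ fun i => ?_
      · rw [Fin.snoc_last]; simpa using h₂ c hc.1.2
      · rw [Fin.snoc_castSucc]; exact hsing i
    refine ⟨Fin.snoc (α := fun _ => MvPolynomial (Fin (n + 1)) k) f (gen c), hhomog, hsing', ?_, ?_⟩
    · rw [hspan]; exact h₁ c hc.1.1
    · rw [hspan]
      refine le_antisymm ?_ (by exact_mod_cast h₃ c hc.2)
      rw [← hspan]
      have hJle : Ideal.span (Set.range (Fin.snoc (α := fun _ => MvPolynomial (Fin (n + 1)) k) f (gen c))) ≤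
          LiaisonH1.irr k n := CIUnmixed6.mem_irr (d := d) hhomog hd
      refine (Ideal.height_le_spanRank_toENat _ (ne_top_of_le_ne_top (LiaisonH1.irr_isMaximal k n).ne_top hJle)).trans ?_
      refine (OrderHomClass.mono Cardinal.toENat (Submodule.spanRank_span_le_card _)).trans ?_
      simpa using OrderHomClass.mono Cardinal.toENat
        (mk_range_le_nat (Fin.snoc (α := fun _ => MvPolynomial (Fin (n + 1)) k) f (gen c)))

theorem aeval_smul_of_isHomogeneous {R : Type*} [CommRing R] [Algebra k R]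
    (g : MvPolynomial (Fin (n + 1)) k) (e : ℕ) (hg : g.IsHomogeneous e) (v : Fin (n + 1) → R) (a : R) :
    aeval (fun l => a * v l) g = a ^ e * aeval v g := by
  rw [aeval_def, aeval_def, eval₂_eq, eval₂_eq, Finset.mul_sum]
  refine Finset.sum_congr rfl fun m hm => ?_
  have hdeg : ∑ l ∈ m.support, m l = e := by
    have h := hg (MvPolynomial.mem_support_iff.1 hm)
    simpa [Finsupp.weight_apply, Finsupp.sum] using h
  simp_rw [mul_pow]
  rw [Finset.prod_mul_distrib, Finset.prod_pow_eq_pow_sum, hdeg]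
  ring

/-- The Laurent ring of a smooth algebra is smooth. -/
theorem smooth_laurent (A : Type u) [CommRing A] [Algebra k A] [Algebra.Smooth k A] :
    Algebra.Smooth k (Localization.Away (Polynomial.X : Polynomial A)) := by
  haveI : Algebra.Smooth A (Polynomial A) := ⟨inferInstance, inferInstance⟩
  haveI : Algebra.Smooth k (Polynomial A) := Algebra.Smooth.comp k A (Polynomial A)
  exact Algebra.Smooth.comp k (Polynomial A) (Localization.Away (Polynomial.X : Polynomial A))

/-- A cone minus a hyperplane is a cylinder over the chart. -/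
theorem smooth_away {T A : Type u} [CommRing T] [Algebra k T] [CommRing A] [Algebra k A] [Algebra.Smooth k A]
    (qT : MvPolynomial (Fin (n + 1)) k →ₐ[k] T) (hqT : Function.Surjective qT)
    (qA : MvPolynomial (Fin (n + 1)) k →ₐ[k] A) (hqA : Function.Surjective qA) (j : Fin (n + 1))
    (hj : qA (X j) = 1)
    (hTA : ∀ {R : Type u} [CommRing R] [Algebra k R] (a : R) (v : Fin (n + 1) → R),
      RingHom.ker qA.toRingHom ≤ RingHom.ker (aeval v : MvPolynomial (Fin (n + 1)) k →ₐ[k] R).toRingHom →
      RingHom.ker qT.toRingHom ≤ RingHom.ker (aeval fun l => a * v l : MvPolynomial (Fin (n + 1)) k →ₐ[k] R).toRingHom)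
    (hAT : ∀ {R : Type u} [CommRing R] [Algebra k R] (a : R) (v : Fin (n + 1) → R), a * v j = 1 →
      RingHom.ker qT.toRingHom ≤ RingHom.ker (aeval v : MvPolynomial (Fin (n + 1)) k →ₐ[k] R).toRingHom →
      RingHom.ker qA.toRingHom ≤ RingHom.ker (aeval fun l => a * v l : MvPolynomial (Fin (n + 1)) k →ₐ[k] R).toRingHom) :
    Algebra.Smooth k (Localization.Away (qT (X j))) := by
  haveI := smooth_laurent (k := k) A
  let ι : A →ₐ[k] Localization.Away (Polynomial.X : Polynomial A) :=
    (IsScalarTower.toAlgHom k (Polynomial A) _).comp (IsScalarTower.toAlgHom k A (Polynomial A))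
  let τ : T →ₐ[k] Localization.Away (qT (X j)) := IsScalarTower.toAlgHom k T _
  let t : Localization.Away (Polynomial.X : Polynomial A) := algebraMap (Polynomial A) _ Polynomial.X
  let iy : Localization.Away (qT (X j)) := IsLocalization.Away.invSelf (qT (X j))
  have hiy : τ (qT (X j)) * iy = 1 := IsLocalization.Away.mul_invSelf (qT (X j))
  have hι : (aeval fun l => ι (qA (X l))) = ι.comp qA :=
    MvPolynomial.algHom_ext fun l => by simp
  have hτ : (aeval fun l => τ (qT (X l))) = τ.comp qT :=
    MvPolynomial.algHom_ext fun l => by simp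
  let φ₁ : T →ₐ[k] Localization.Away (Polynomial.X : Polynomial A) :=
    AlgHom.liftOfSurjective qT hqT (aeval fun l => t * ι (qA (X l)))
      (hTA t _ (by rw [hι]; intro g hg; simp only [RingHom.mem_ker, AlgHom.toRingHom_eq_coe,
        RingHom.coe_coe, AlgHom.comp_apply] at hg ⊢; rw [hg, map_zero]))
  let ψ₁ : A →ₐ[k] Localization.Away (qT (X j)) :=
    AlgHom.liftOfSurjective qA hqA (aeval fun l => iy * τ (qT (X l)))
      (hAT iy _ (by rw [mul_comm]; exact hiy) (by rw [hτ]; intro g hg; simp only [RingHom.mem_ker,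
        AlgHom.toRingHom_eq_coe, RingHom.coe_coe, AlgHom.comp_apply] at hg ⊢; rw [hg, map_zero]))
  have hφ₁ : ∀ g, φ₁ (qT g) = aeval (fun l => t * ι (qA (X l))) g := fun g =>
    AlgHom.liftOfSurjective_apply ..
  have hψ₁ : ∀ g, ψ₁ (qA g) = aeval (fun l => iy * τ (qT (X l))) g := fun g =>
    AlgHom.liftOfSurjective_apply ..
  have hφ₁x : φ₁ (qT (X j)) = t := by rw [hφ₁, aeval_X, hj, map_one, mul_one]
  let φ : Localization.Away (qT (X j)) →ₐ[k] Localization.Away (Polynomial.X : Polynomial A) :=
    IsLocalization.liftAlgHom (M := Submonoid.powers (qT (X j))) (f := φ₁) (by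
      rintro ⟨_, e, rfl⟩
      show IsUnit (φ₁ (qT (X j) ^ e))
      rw [map_pow, hφ₁x]
      exact (IsLocalization.Away.algebraMap_isUnit (Polynomial.X : Polynomial A)).pow e)
  let ψ₂ : Polynomial A →ₐ[k] Localization.Away (qT (X j)) :=
    { Polynomial.eval₂RingHom ψ₁.toRingHom (τ (qT (X j))) with
      commutes' := fun a => by
        show Polynomial.eval₂ ψ₁.toRingHom (τ (qT (X j))) (algebraMap k (Polynomial A) a) = algebraMap k _ a
        rw [IsScalarTower.algebraMap_apply k A (Polynomial A), Polynomial.algebraMap_apply, Polynomial.eval₂_C]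
        exact ψ₁.commutes a }
  have hψ₂X : ψ₂ Polynomial.X = τ (qT (X j)) := Polynomial.eval₂_X _ _
  have hψ₂C : ∀ a, ψ₂ (Polynomial.C a) = ψ₁ a := fun a => Polynomial.eval₂_C _ _
  let ψ : Localization.Away (Polynomial.X : Polynomial A) →ₐ[k] Localization.Away (qT (X j)) :=
    IsLocalization.liftAlgHom (M := Submonoid.powers (Polynomial.X : Polynomial A)) (f := ψ₂) (by
      rintro ⟨_, e, rfl⟩
      show IsUnit (ψ₂ (Polynomial.X ^ e))
      rw [map_pow, hψ₂X]
      exact (IsLocalization.Away.algebraMap_isUnit (qT (X j))).pow e)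
  have hψB : ∀ p, ψ (algebraMap (Polynomial A) _ p) = ψ₂ p := fun p => IsLocalization.lift_eq _ _
  have hφT : ∀ p, φ (τ p) = φ₁ p := fun p => IsLocalization.lift_eq _ _
  have hψι : ∀ a, ψ (ι a) = ψ₁ a := fun a => by
    show ψ (algebraMap (Polynomial A) _ (algebraMap A (Polynomial A) a)) = _
    rw [hψB, Polynomial.algebraMap_apply]
    exact hψ₂C a
  have hψt : ψ t = τ (qT (X j)) := (hψB _).trans hψ₂X
  have hφiy : φ iy * t = 1 := by
    rw [← hφ₁x, ← hφT, ← map_mul, mul_comm, hiy, map_one]
  have h1 : ψ.comp φ = AlgHom.id k _ := by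
    refine IsLocalization.algHom_ext (Submonoid.powers (qT (X j))) ?_
    refine AlgHom.ext fun p => ?_
    obtain ⟨g, rfl⟩ := hqT p
    show ψ (φ (τ (qT g))) = τ (qT g)
    rw [hφT, hφ₁, comp_aeval_apply]
    have e : (fun l => ψ (t * ι (qA (X l)))) = fun l => τ (qT (X l)) := funext fun l => by
      rw [map_mul, hψt, hψι, hψ₁, aeval_X, ← mul_assoc, hiy, one_mul]
    rw [e, hτ]
    rfl
  have h2 : φ.comp ψ = AlgHom.id k _ := by
    refine IsLocalization.algHom_ext (Submonoid.powers (Polynomial.X : Polynomial A)) ?_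
    refine Polynomial.algHom_ext' ?_ ?_
    · refine AlgHom.ext fun a => ?_
      obtain ⟨g, rfl⟩ := hqA a
      show φ (ψ (ι (qA g))) = ι (qA g)
      rw [hψι, hψ₁, comp_aeval_apply]
      have e : (fun l => φ (iy * τ (qT (X l)))) = fun l => ι (qA (X l)) := funext fun l => by
        rw [map_mul, hφT, hφ₁, aeval_X, ← mul_assoc, hφiy, one_mul]
      rw [e, hι]
      rfl
    · show φ (ψ t) = t
      rw [hψt, hφT, hφ₁x]
  exact Algebra.Smooth.of_equiv (AlgEquiv.ofAlgHom ψ φ h1 h2)

/-- The cone is regular away from the hyperplane `X j = 0`. -/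
theorem isRegularLocalRing_cone {r : ℕ} (f : Fin r → MvPolynomial (Fin (n + 1)) k) (d : Fin r → ℕ)
    (hf : ∀ i, (f i).IsHomogeneous (d i)) (j : Fin (n + 1))
    [Algebra.Smooth k (MvPolynomial (Fin (n + 1)) k ⧸ chartI (Ideal.span (Set.range f)) j)]
    (Q : Ideal (MvPolynomial (Fin (n + 1)) k ⧸ Ideal.span (Set.range f))) [Q.IsPrime]
    (hQ : Ideal.Quotient.mk _ (X j) ∉ Q) : IsRegularLocalRing (Localization.AtPrime Q) := by
  have hj : Ideal.Quotient.mk (chartI (Ideal.span (Set.range f)) j) (X j) = 1 := by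
    rw [← map_one (Ideal.Quotient.mk (chartI (Ideal.span (Set.range f)) j)), Ideal.Quotient.eq]
    exact Ideal.mem_sup_right (Ideal.mem_span_singleton_self _)
  have hgen : ∀ {R : Type u} [CommRing R] [Algebra k R] (a : R) (v : Fin (n + 1) → R),
      (∀ i, aeval v (f i) = 0) → Ideal.span (Set.range f) ≤
        RingHom.ker (aeval fun l => a * v l : MvPolynomial (Fin (n + 1)) k →ₐ[k] R).toRingHom := by
    intro R _ _ a v hv
    refine Ideal.span_le.2 ?_
    rintro _ ⟨i, rfl⟩
    show aeval (fun l => a * v l) (f i) = 0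
    rw [aeval_smul_of_isHomogeneous (f i) (d i) (hf i), hv i, mul_zero]
  have hsm : Algebra.Smooth k (Localization.Away
      ((Ideal.Quotient.mkₐ k (Ideal.span (Set.range f))) (X j))) :=
    smooth_away (Ideal.Quotient.mkₐ k _) (Ideal.Quotient.mkₐ_surjective k _)
      (Ideal.Quotient.mkₐ k (chartI (Ideal.span (Set.range f)) j)) (Ideal.Quotient.mkₐ_surjective k _) j hj
      (fun {R} _ _ a v hv => by
        intro g hg
        refine hgen a v (fun i => hv ?_) (Ideal.Quotient.eq_zero_iff_mem.1 hg)
        exact Ideal.Quotient.eq_zero_iff_mem.2 (Ideal.mem_sup_left (Ideal.subset_span ⟨i, rfl⟩)))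
      (fun {R} _ _ a v hav hv => by
        intro g hg
        refine (sup_le (hgen a v fun i => hv ?_) ((Ideal.span_singleton_le_iff_mem _).2 ?_))
          (Ideal.Quotient.eq_zero_iff_mem.1 hg)
        · exact Ideal.Quotient.eq_zero_iff_mem.2 (Ideal.subset_span ⟨i, rfl⟩)
        · show aeval (fun l => a * v l) (X j - 1) = 0
          rw [map_sub, map_one, aeval_X, hav, sub_self])
  generalize hx : Ideal.Quotient.mk (Ideal.span (Set.range f)) (X j) = x at hQ
  replace hsm : Algebra.Smooth k (Localization.Away x) := by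
    subst hx
    exact hsm
  have hdisj : Disjoint ((Submonoid.powers x : Submonoid _) : Set (MvPolynomial (Fin (n + 1)) k ⧸ Ideal.span (Set.range f))) (Q : Set _) :=
    (Ideal.disjoint_powers_iff_notMem_of_isPrime _).2 hQ
  let Q' : Ideal (Localization.Away x) := Q.map (algebraMap _ _)
  haveI : Q'.IsPrime := IsLocalization.isPrime_of_isPrime_disjoint (Submonoid.powers x) _ Q inferInstance hdisj
  haveI := SmoothReg17.isRegularLocalRing_of_smooth (algebraMap k (Localization.Away x))
    (RingHom.smooth_algebraMap.2 hsm) Q'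
  have hcomap : Q'.comap (algebraMap _ (Localization.Away x)) = Q :=
    IsLocalization.comap_map_of_isPrime_disjoint (Submonoid.powers x) _ inferInstance hdisj
  have h := IsLocalization.isLocalization_isLocalization_atPrime_isLocalization (Submonoid.powers x)
    (Localization.AtPrime Q') Q'
  haveI : IsLocalization.AtPrime (Localization.AtPrime Q') Q := by
    unfold IsLocalization.AtPrime at h ⊢
    convert h using 2
    rw [hcomap]
  exact IsRegularLocalRing.of_ringEquiv
    (IsLocalization.algEquiv Q.primeCompl (Localization.AtPrime Q') (Localization.AtPrime Q)).toRingEquiv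

end Groth.Agent.NonsingCI6
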